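import Groth.Agent.JacEquidimLib.RectDepth
import Groth.Agent.OpenDim.Dims
import Groth.Agent.AssLib.Basic

/-!
# Cutting by one function on a scheme locally of finite type over a field
-/

set_option autoImplicit false
set_option linter.style.haveILetI false
set_option backward.isDefEq.respectTransparency false

universe u

open CategoryTheory AlgebraicGeometry Topology TopologicalSpace Groth.Agent.AssLib Groth.Agent.CatSpaceLib

namespace Groth.Agent.CutDimLib

variable {k : Type u} [Field k] {X : Scheme.{u}} (p : X ⟶ Spec (CommRingCat.of k)) [LocallyOfFiniteType p]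

include p in
theorem dim_le_trd (Z : Set X) (hZ : IsClosed Z) (D : WithBot ℕ∞)
    (h : ∀ z ∈ Z, (OpenDim.trd p z : WithBot ℕ∞) ≤ D) : topologicalKrullDim ↥Z ≤ D := by
  haveI : QuasiSober ↥Z := hZ.isClosedEmbedding_subtypeVal.quasiSober
  exact OpenDim.topologicalKrullDim_le_of_trd p IsEmbedding.subtypeVal (y := IsLocalRing.closedPoint k)
    (fun _ => Subsingleton.elim _ _) fun w => h w.1 w.2

theorem trd_le_dim (Z : Set X) (hZ : IsClosed Z) {z : X} (hz : z ∈ Z) :
    (OpenDim.trd p z : WithBot ℕ∞) ≤ topologicalKrullDim ↥Z :=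
  OpenDim.trd_le_topologicalKrullDim p IsEmbedding.subtypeVal ⊤ trivial fun x _ hzx _ =>
    ⟨⟨x, hzx.mem_closed hZ hz⟩, rfl⟩

include p in
theorem components_equidim' :
    (∀ x : X, CAlg.IsUniversallyCatenary (X.presheaf.stalk x)) ∧
      ∀ X' ∈ irreducibleComponents (X : Type u), ∀ x ∈ X', IsClosed ({x} : Set X) →
        topologicalKrullDim (↥X' : Type u) = topologicalKrullDim ↥{t : X | t ∈ X' ∧ t ⤳ x} := by
  let S := Spec (CommRingCat.of k)
  haveI : JacobsonSpace S := PrimeSpectrum.isJacobsonRing_iff_jacobsonSpace.1 inferInstance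
  have h2 : ∀ s : S, CAlg.IsUniversallyCatenary (S.presheaf.stalk s) := JacEquidimLib.universallyCatenary_of_regular fun s => by
    letI : Algebra k (S.presheaf.stalk s) := StructureSheaf.stalkAlgebra k s
    haveI : IsRegularLocalRing (S.presheaf.stalk s) := by
      haveI : IsLocalization.AtPrime (S.presheaf.stalk s) s.asIdeal := StructureSheaf.IsLocalization.to_stalk k s
      haveI := IsRegularRing.isRegularLocalRing_localization (R := k) s.asIdeal
      exact IsRegularLocalRing.of_ringEquiv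
        (IsLocalization.algEquiv s.asIdeal.primeCompl (Localization.AtPrime s.asIdeal) (S.presheaf.stalk s)).toRingEquiv
    infer_instance
  have h3 : ∀ X' ∈ irreducibleComponents (S : Type u), ∀ x ∈ X', IsClosed ({x} : Set S) →
      topologicalKrullDim (↥X' : Type u) = topologicalKrullDim ↥{t : S | t ∈ X' ∧ t ⤳ x} := fun X' _ x _ _ => by
    rw [show {t : S | t ∈ X' ∧ t ⤳ x} = X' from Set.ext fun t =>
      ⟨fun h => h.1, fun h => ⟨h, (Subsingleton.elim t x) ▸ specializes_rfl⟩⟩]
  haveI : IsLocallyNoetherian X := LocallyOfFiniteType.isLocallyNoetherian p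
  exact ⟨JacEquidimLib.universallyCatenary_stalks h2 p, JacEquidimLib.components_equidim h2 h3 p⟩

include p in
/-- A principal cut of the closure of a point drops the dimension by exactly one. -/
theorem exists_dim_eq (η : X) (f : Γ(X, ⊤)) (hη : η ∉ X.zeroLocus (U := ⊤) {f}) {y : X} (hy : η ⤳ y)
    (hyf : y ∈ X.zeroLocus (U := ⊤) {f}) :
    ∃ z ∈ X.zeroLocus (U := ⊤) {f}, topologicalKrullDim ↥(closure ({η} : Set X)) ≤
      topologicalKrullDim ↥(closure ({z} : Set X)) + 1 := by
  haveI : IsLocallyNoetherian X := LocallyOfFiniteType.isLocallyNoetherian p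
  haveI : JacobsonSpace X := LocallyOfFiniteType.jacobsonSpace p
  obtain ⟨W, hW, hyW, -⟩ := exists_isAffineOpen_mem_and_subset (X := X) (x := y) (U := ⊤) trivial
  haveI : IsNoetherianRing Γ(X, W) := IsLocallyNoetherian.component_noetherian ⟨W, hW⟩
  let g : Γ(X, W) := X.presheaf.map (homOfLE (le_top : W ≤ ⊤)).op f
  have hmem : ∀ (t : X) (ht : t ∈ W), t ∈ X.zeroLocus (U := ⊤) {f} ↔ g ∈ pr hW ht := fun t ht => by
    rw [Scheme.mem_zeroLocus_iff]
    simp only [Set.mem_singleton_iff, forall_eq]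
    rw [Scheme.mem_basicOpen X f t trivial, ← AssLib.under_maximalIdeal hW ht, Ideal.mem_comap,
      IsLocalRing.mem_maximalIdeal, mem_nonunits_iff, not_iff_not]
    exact iff_of_eq (congrArg IsUnit (X.presheaf.germ_res_apply (homOfLE (le_top : W ≤ ⊤)) t ht f).symm)
  have hηW : η ∈ W := mem_of_specializes hy hyW
  let P := pr hW hηW
  let B := Γ(X, W) ⧸ P
  have hgP : g ∉ P := fun h => hη ((hmem η hηW).2 h)
  have hPy : P ≤ pr hW hyW := (specializes_iff hW hyW hηW).1 hy
  obtain ⟨Q, hQ, hQle⟩ := Ideal.exists_minimalPrimes_le (I := P ⊔ Ideal.span {g}) (J := pr hW hyW)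
    (sup_le hPy ((Ideal.span_singleton_le_iff_mem _).2 ((hmem y hyW).1 hyf)))
  let q : PrimeSpectrum Γ(X, W) := ⟨Q, hQ.1.1⟩
  have hPQ : P ≤ Q := le_sup_left.trans hQ.1.2
  refine ⟨pt hW q, (hmem _ (pt_mem hW q)).2 (by
    rw [pr_pt]; exact hQ.1.2 (Ideal.mem_sup_right (Ideal.mem_span_singleton_self g))), ?_⟩
  have hηz : η ⤳ pt hW q := (specializes_iff hW (pt_mem hW q) hηW).2 (by rw [pr_pt]; exact hPQ)
  have hbetween : ∀ R : Ideal Γ(X, W), R.IsPrime → P ≤ R → R ≤ Q → R = P ∨ R = Q := by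
    intro R hR hPR hRQ
    by_contra hne
    push Not at hne
    have hsurj := Ideal.Quotient.mk_surjective (I := P)
    have hk : ∀ J : Ideal Γ(X, W), P ≤ J → (J.map (Ideal.Quotient.mk P)).comap (Ideal.Quotient.mk P) = J := fun J hJ => by
      rw [Ideal.comap_map_of_surjective _ hsurj, ← RingHom.ker_eq_comap_bot, Ideal.mk_ker, sup_eq_left.2 hJ]
    haveI hQ' : (Q.map (Ideal.Quotient.mk P)).IsPrime := by
      haveI := hQ.1.1
      exact Ideal.map_isPrime_of_surjective hsurj (by rwa [Ideal.mk_ker])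
    haveI hR' : (R.map (Ideal.Quotient.mk P)).IsPrime :=
      Ideal.map_isPrime_of_surjective hsurj (by rwa [Ideal.mk_ker])
    have hmin : Q.map (Ideal.Quotient.mk P) ∈ (Ideal.span {Ideal.Quotient.mk P g}).minimalPrimes := by
      refine ⟨⟨hQ', ?_⟩, fun J ⟨hJ, hgJ⟩ hJQ => ?_⟩
      · rw [Ideal.span_singleton_le_iff_mem]
        exact Ideal.mem_map_of_mem _ (hQ.1.2 (Ideal.mem_sup_right (Ideal.mem_span_singleton_self g)))
      · have h1 : Q ≤ J.comap (Ideal.Quotient.mk P) := by
          refine hQ.2 ⟨Ideal.IsPrime.comap _, sup_le ?_ ?_⟩ ?_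
          · exact fun r hr => by show Ideal.Quotient.mk P r ∈ J; rw [Ideal.Quotient.eq_zero_iff_mem.2 hr]; exact zero_mem _
          · rw [Ideal.span_singleton_le_iff_mem]; exact (Ideal.span_singleton_le_iff_mem (I := J)).1 hgJ
          · exact (Ideal.comap_mono hJQ).trans_eq (hk Q hPQ)
        exact Ideal.map_le_iff_le_comap.2 h1
    have hht := Ideal.height_le_one_of_isPrincipal_of_mem_minimalPrimes (Ideal.span {Ideal.Quotient.mk P g}) _ hmin
    have hlt1 : (⊥ : Ideal B) < R.map (Ideal.Quotient.mk P) := by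
      refine bot_lt_iff_ne_bot.2 fun h0 => hne.1 ?_
      rw [← hk R hPR, h0, ← RingHom.ker_eq_comap_bot, Ideal.mk_ker]
    have hlt2 : R.map (Ideal.Quotient.mk P) < Q.map (Ideal.Quotient.mk P) :=
      lt_of_le_of_ne (Ideal.map_mono hRQ) fun h => hne.2 (by rw [← hk R hPR, h, hk Q hPQ])
    have e1 := Ideal.height_add_one_le_of_lt_of_isPrime hlt1
    have e2 := Ideal.height_add_one_le_of_lt_of_isPrime hlt2
    have e3 : (1 : ℕ∞) + 1 ≤ 1 := ((add_le_add (le_trans le_add_self e1) le_rfl).trans e2).trans hht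
    exact absurd e3 (by norm_num)
  obtain ⟨h2, h3⟩ := components_equidim' p
  rw [JacEquidimLib.dim_closure_eq_add h2 h3 hηz]
  refine add_le_add le_rfl ?_
  rw [← JacEquidimLib.dist_eq_krullDim_Icc (CatSpaceLib.ofPoint_le.2 hηz)]
  refine iSup_le fun s => ?_
  by_contra hlen
  push Not at hlen
  have hl : 2 ≤ s.length := by exact_mod_cast (Order.add_one_le_of_lt (show (1 : ℕ) < s.length from by exact_mod_cast hlen))
  obtain ⟨t, ht⟩ := CatSpaceLib.exists_ofPoint (s ⟨1, by omega⟩).1
  have hlo : ofPoint (pt hW q) < ofPoint t := by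
    rw [ht]
    exact lt_of_le_of_lt (s ⟨0, by omega⟩).2.1 (s.strictMono (show (⟨0, by omega⟩ : Fin (s.length + 1)) < ⟨1, by omega⟩ from Nat.zero_lt_one))
  have hhi : ofPoint t < ofPoint η := by
    rw [ht]
    exact lt_of_lt_of_le (s.strictMono (show (⟨1, by omega⟩ : Fin (s.length + 1)) < ⟨2, by omega⟩ from Nat.one_lt_two)) (s ⟨2, by omega⟩).2.2
  have htz : t ⤳ pt hW q := CatSpaceLib.ofPoint_le.1 hlo.le
  have htW : t ∈ W := mem_of_specializes htz (pt_mem hW q)
  rcases hbetween (pr hW htW) inferInstance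
    ((specializes_iff hW htW hηW).1 (CatSpaceLib.ofPoint_le.1 hhi.le))
    (((specializes_iff hW (pt_mem hW q) htW).1 htz).trans (pr_pt hW q).le) with h | h
  · exact hhi.ne (congrArg ofPoint (by
      rw [← pt_primeIdealOf hW htW, ← pt_primeIdealOf hW hηW, show hW.primeIdealOf ⟨t, htW⟩ = hW.primeIdealOf ⟨η, hηW⟩ from PrimeSpectrum.ext h]))
  · exact hlo.ne (congrArg ofPoint (by
      rw [← pt_primeIdealOf hW htW, show hW.primeIdealOf ⟨t, htW⟩ = q from PrimeSpectrum.ext h]))

end Groth.Agent.CutDimLib
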